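import Cfsg.Agent.ONFortyFive.Kit
import Cfsg.Agent.ONFortyFive.Data

/-!
The relations of the seven matrices, up to scalars.
-/

set_option autoImplicit false

namespace Cfsg.Lib.ONFortyFive

/-- The rows of a letter. -/
def dat : Fin 7 → List ℕ := ![dat0, dat1, dat2, dat3, dat4, dat5, dat6]

/-- The image of a row under a word. -/
noncomputable def stp : List (Fin 7) → ℕ → ℕ
  | [], v => v
  | x :: w, v => frc (comb (dat x) v) fun c => frc (redR 45 c) fun u => stp w u

/-- The rows of the product of a word. -/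
noncomputable def evP (w : List (Fin 7)) : List ℕ := datOne.map (stp w)

/-- The matrix of a word. -/
def wordVal (w : List (Fin 7)) : Matrix (Fin 45) (Fin 45) (ZMod 7) := (w.map fun x => val (dat x)).prod

theorem data_ok : (∀ x : Fin 7, okMat (dat x) = true) ∧ okMat datOne = true ∧ okMat datTwo = true := by decide +kernel

/-- The entries of the scalar data. -/
noncomputable def oneChk : Bool :=
  (List.range 45).all fun i => (List.range 45).all fun j =>
    Nat.beq (fld (datOne.getD i 0) j) (bif Nat.beq i j then 1 else 0) &&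
      Nat.beq (fld (datTwo.getD i 0) j) (bif Nat.beq i j then 2 else 0)

theorem one_chk : oneChk = true := by decide +kernel

theorem val_one (i j : Fin 45) : val datOne i j = (1 : Matrix (Fin 45) (Fin 45) (ZMod 7)) i j ∧
    val datTwo i j = ((2 : ZMod 7) • (1 : Matrix (Fin 45) (Fin 45) (ZMod 7))) i j := by
  have h := one_chk
  simp only [oneChk, List.all_eq_true, List.mem_range, Bool.and_eq_true, Nat.beq_eq] at h
  obtain ⟨h1, h2⟩ := h i i.2 j j.2
  rw [val, val, h1, h2, Matrix.smul_apply, Matrix.one_apply]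
  by_cases e : i = j
  · subst e; simp
  · have hb : Nat.beq (i : ℕ) (j : ℕ) = false :=
      Bool.eq_false_iff.2 fun hh => e (Fin.ext (Nat.eq_of_beq_eq_true hh))
    simp [e, hb]

theorem stp_spec : ∀ (w : List (Fin 7)) (A : List ℕ), Good A →
    Good (A.map (stp w)) ∧ val (A.map (stp w)) = val A * wordVal w
  | [], A, h => by
    rw [show stp [] = id from rfl, List.map_id]
    exact ⟨h, by simp [wordVal]⟩
  | x :: w, A, h => by
    have e : A.map (stp (x :: w)) = (mulP A (dat x)).map (stp w) := by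
      simp only [mulP, List.map_map]
      exact List.map_congr_left fun a _ => by simp only [stp, frc_eq, Function.comp_apply]
    obtain ⟨hg, hv⟩ := stp_spec w _ (mulP_good (B := dat x) h)
    rw [e]
    refine ⟨hg, ?_⟩
    rw [hv, val_mulP h (good_of (data_ok.1 x)), mul_assoc]
    rfl

theorem evP_spec (w : List (Fin 7)) : Good (evP w) ∧ val (evP w) = wordVal w := by
  obtain ⟨hg, hv⟩ := stp_spec w datOne (good_of data_ok.2.1)
  refine ⟨hg, hv.trans ?_⟩
  rw [show val datOne = 1 from funext fun i => funext fun j => (val_one i j).1, one_mul]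

/-- Whether a word has given rows on a block of nine rows. -/
noncomputable def rowsOK (k : ℕ) (w : List (Fin 7)) (D : List ℕ) : Bool :=
  (List.range' (9 * k) 9).all fun i => frcB i fun i => frcB (datOne.getD i 0) fun v =>
    frcB (stp w v) fun a => Nat.beq a (D.getD i 0)

theorem datOne_length : datOne.length = 45 := (good_of data_ok.2.1).1

theorem evP_getD (w : List (Fin 7)) {i : ℕ} (hi : i < 45) : (evP w).getD i 0 = stp w (datOne.getD i 0) := by
  have h : i < datOne.length := by rw [datOne_length]; exact hi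
  rw [List.getD_eq_getElem (evP w) _ (by rw [evP, List.length_map]; exact h), List.getD_eq_getElem datOne _ h]
  simp only [evP, List.getElem_map]

theorem evP_eq_of_rows {w : List (Fin 7)} {D : List ℕ} (hD : D.length = 45)
    (h : ∀ k < 5, rowsOK k w D = true) : evP w = D := by
  have hl : (evP w).length = 45 := by rw [evP, List.length_map, datOne_length]
  refine List.ext_getElem (hl.trans hD.symm) fun i h1 h2 => ?_
  have h45 : i < 45 := hl ▸ h1
  have hr := h (i / 9) (by omega)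
  simp only [rowsOK, List.all_eq_true, frcB_eq, Nat.beq_eq, List.mem_range'_1] at hr
  rw [← List.getD_eq_getElem (evP w) 0 h1, ← List.getD_eq_getElem D 0 h2, evP_getD w h45]
  exact hr i (by omega)

/-- Whether two words agree on a block of nine rows. -/
noncomputable def pairOK (k : ℕ) (u v : List (Fin 7)) : Bool :=
  (List.range' (9 * k) 9).all fun i => frcB i fun i => frcB (datOne.getD i 0) fun r =>
    frcB (stp u r) fun a => Nat.beq a (stp v r)

theorem eqW_of_rows {u v : List (Fin 7)} (h : ∀ k < 5, pairOK k u v = true) : wordVal u = wordVal v := by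
  rw [← (evP_spec u).2, ← (evP_spec v).2]
  refine congrArg val ?_
  have hl : ∀ w, (evP w).length = 45 := fun w => by rw [evP, List.length_map, datOne_length]
  refine List.ext_getElem ((hl u).trans (hl v).symm) fun i h1 h2 => ?_
  have h45 : i < 45 := (hl u) ▸ h1
  have hr := h (i / 9) (by omega)
  simp only [pairOK, List.all_eq_true, frcB_eq, Nat.beq_eq, List.mem_range'_1] at hr
  rw [← List.getD_eq_getElem (evP u) 0 h1, ← List.getD_eq_getElem (evP v) 0 h2, evP_getD u h45, evP_getD v h45]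
  exact hr i (by omega)

theorem eqOne_sound {u : List (Fin 7)} (h : evP u = datOne) : wordVal u = 1 := by
  rw [← (evP_spec u).2, h]; exact funext fun i => funext fun j => (val_one i j).1

theorem eqTwo_sound {u : List (Fin 7)} (h : evP u = datTwo) : wordVal u = (2 : ZMod 7) • 1 := by
  rw [← (evP_spec u).2, h]; exact funext fun i => funext fun j => (val_one i j).2

/-- The Coxeter words. -/
def coxWords : List (List (Fin 7)) :=
  [[1, 1], [2, 2], [3, 3], [4, 4], [5, 5], [6, 6], [1, 2, 1, 2, 1, 2], [1, 3, 1, 3], [1, 4, 1, 4], [1, 5, 1, 5],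
    [1, 6, 1, 6], [2, 3, 2, 3, 2, 3], [2, 4, 2, 4], [2, 5, 2, 5], [2, 6, 2, 6],
    [3, 4, 3, 4, 3, 4, 3, 4, 3, 4, 3, 4, 3, 4, 3, 4], [3, 5, 3, 5], [3, 6, 3, 6], [4, 5, 4, 5, 4, 5], [4, 6, 4, 6],
    [5, 6, 5, 6, 5, 6]]

theorem five_cases {P : ℕ → Prop} (h0 : P 0) (h1 : P 1) (h2 : P 2) (h3 : P 3) (h4 : P 4) : ∀ k < 5, P k := by
  intro k hk
  match k, hk with
  | 0, _ => exact h0
  | 1, _ => exact h1
  | 2, _ => exact h2
  | 3, _ => exact h3
  | 4, _ => exact h4

attribute [local irreducible] stp rowsOK pairOK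

theorem cox_rows_0 : (coxWords.all fun w => rowsOK 0 w datOne) = true := by decide +kernel

theorem cox_rows_1 : (coxWords.all fun w => rowsOK 1 w datOne) = true := by decide +kernel

theorem cox_rows_2 : (coxWords.all fun w => rowsOK 2 w datOne) = true := by decide +kernel

theorem cox_rows_3 : (coxWords.all fun w => rowsOK 3 w datOne) = true := by decide +kernel

theorem cox_rows_4 : (coxWords.all fun w => rowsOK 4 w datOne) = true := by decide +kernel

theorem cox_chk (w : List (Fin 7)) (hw : w ∈ coxWords) : evP w = datOne :=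
  evP_eq_of_rows datOne_length fun k hk => List.all_eq_true.1
    (five_cases (P := fun k => (coxWords.all fun w => rowsOK k w datOne) = true) cox_rows_0 cox_rows_1 cox_rows_2
      cox_rows_3 cox_rows_4 k hk) w hw

theorem five_rows_0 : rowsOK 0 [2, 3, 4, 0, 2, 3, 4, 0, 2, 3, 4, 0, 2, 3, 4, 0, 2, 3, 4, 0] datOne = true := by decide +kernel

theorem five_rows_1 : rowsOK 1 [2, 3, 4, 0, 2, 3, 4, 0, 2, 3, 4, 0, 2, 3, 4, 0, 2, 3, 4, 0] datOne = true := by decide +kernel

theorem five_rows_2 : rowsOK 2 [2, 3, 4, 0, 2, 3, 4, 0, 2, 3, 4, 0, 2, 3, 4, 0, 2, 3, 4, 0] datOne = true := by decide +kernel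

theorem five_rows_3 : rowsOK 3 [2, 3, 4, 0, 2, 3, 4, 0, 2, 3, 4, 0, 2, 3, 4, 0, 2, 3, 4, 0] datOne = true := by decide +kernel

theorem five_rows_4 : rowsOK 4 [2, 3, 4, 0, 2, 3, 4, 0, 2, 3, 4, 0, 2, 3, 4, 0, 2, 3, 4, 0] datOne = true := by decide +kernel

theorem five_chk : evP [2, 3, 4, 0, 2, 3, 4, 0, 2, 3, 4, 0, 2, 3, 4, 0, 2, 3, 4, 0] = datOne :=
  evP_eq_of_rows datOne_length (five_cases five_rows_0 five_rows_1 five_rows_2
    five_rows_3 five_rows_4)

theorem scal_rows0_0 : rowsOK 0 [0, 0, 1, 6] datTwo = true := by decide +kernel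

theorem scal_rows0_1 : rowsOK 1 [0, 0, 1, 6] datTwo = true := by decide +kernel

theorem scal_rows0_2 : rowsOK 2 [0, 0, 1, 6] datTwo = true := by decide +kernel

theorem scal_rows0_3 : rowsOK 3 [0, 0, 1, 6] datTwo = true := by decide +kernel

theorem scal_rows0_4 : rowsOK 4 [0, 0, 1, 6] datTwo = true := by decide +kernel

theorem scal_chk0 : evP [0, 0, 1, 6] = datTwo :=
  evP_eq_of_rows (good_of data_ok.2.2).1 (five_cases scal_rows0_0 scal_rows0_1 scal_rows0_2
    scal_rows0_3 scal_rows0_4)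

theorem scal_rows1_0 : rowsOK 0 [0, 2, 3, 0, 3, 2, 0, 2, 3, 0, 3] datTwo = true := by decide +kernel

theorem scal_rows1_1 : rowsOK 1 [0, 2, 3, 0, 3, 2, 0, 2, 3, 0, 3] datTwo = true := by decide +kernel

theorem scal_rows1_2 : rowsOK 2 [0, 2, 3, 0, 3, 2, 0, 2, 3, 0, 3] datTwo = true := by decide +kernel

theorem scal_rows1_3 : rowsOK 3 [0, 2, 3, 0, 3, 2, 0, 2, 3, 0, 3] datTwo = true := by decide +kernel

theorem scal_rows1_4 : rowsOK 4 [0, 2, 3, 0, 3, 2, 0, 2, 3, 0, 3] datTwo = true := by decide +kernel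

theorem scal_chk1 : evP [0, 2, 3, 0, 3, 2, 0, 2, 3, 0, 3] = datTwo :=
  evP_eq_of_rows (good_of data_ok.2.2).1 (five_cases scal_rows1_0 scal_rows1_1 scal_rows1_2
    scal_rows1_3 scal_rows1_4)

theorem scal_rows2_0 : rowsOK 0 [0, 5, 4, 0, 4, 5, 0, 5, 4, 0, 4] datTwo = true := by decide +kernel

theorem scal_rows2_1 : rowsOK 1 [0, 5, 4, 0, 4, 5, 0, 5, 4, 0, 4] datTwo = true := by decide +kernel

theorem scal_rows2_2 : rowsOK 2 [0, 5, 4, 0, 4, 5, 0, 5, 4, 0, 4] datTwo = true := by decide +kernel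

theorem scal_rows2_3 : rowsOK 3 [0, 5, 4, 0, 4, 5, 0, 5, 4, 0, 4] datTwo = true := by decide +kernel

theorem scal_rows2_4 : rowsOK 4 [0, 5, 4, 0, 4, 5, 0, 5, 4, 0, 4] datTwo = true := by decide +kernel

theorem scal_chk2 : evP [0, 5, 4, 0, 4, 5, 0, 5, 4, 0, 4] = datTwo :=
  evP_eq_of_rows (good_of data_ok.2.2).1 (five_cases scal_rows2_0 scal_rows2_1 scal_rows2_2
    scal_rows2_3 scal_rows2_4)

theorem pair_rows0_0 : pairOK 0 [3, 4, 0, 4, 0] [4, 0, 4, 0, 3] = true := by decide +kernel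

theorem pair_rows0_1 : pairOK 1 [3, 4, 0, 4, 0] [4, 0, 4, 0, 3] = true := by decide +kernel

theorem pair_rows0_2 : pairOK 2 [3, 4, 0, 4, 0] [4, 0, 4, 0, 3] = true := by decide +kernel

theorem pair_rows0_3 : pairOK 3 [3, 4, 0, 4, 0] [4, 0, 4, 0, 3] = true := by decide +kernel

theorem pair_rows0_4 : pairOK 4 [3, 4, 0, 4, 0] [4, 0, 4, 0, 3] = true := by decide +kernel

theorem pair_val0 : wordVal [3, 4, 0, 4, 0] = wordVal [4, 0, 4, 0, 3] :=
  eqW_of_rows (five_cases pair_rows0_0 pair_rows0_1 pair_rows0_2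
    pair_rows0_3 pair_rows0_4)

theorem pair_rows1_0 : pairOK 0 [4, 3, 0, 3, 0] [3, 0, 3, 0, 4] = true := by decide +kernel

theorem pair_rows1_1 : pairOK 1 [4, 3, 0, 3, 0] [3, 0, 3, 0, 4] = true := by decide +kernel

theorem pair_rows1_2 : pairOK 2 [4, 3, 0, 3, 0] [3, 0, 3, 0, 4] = true := by decide +kernel

theorem pair_rows1_3 : pairOK 3 [4, 3, 0, 3, 0] [3, 0, 3, 0, 4] = true := by decide +kernel

theorem pair_rows1_4 : pairOK 4 [4, 3, 0, 3, 0] [3, 0, 3, 0, 4] = true := by decide +kernel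

theorem pair_val1 : wordVal [4, 3, 0, 3, 0] = wordVal [3, 0, 3, 0, 4] :=
  eqW_of_rows (five_cases pair_rows1_0 pair_rows1_1 pair_rows1_2
    pair_rows1_3 pair_rows1_4)

theorem pair_rows2_0 : pairOK 0 [1, 6] [3, 4, 3, 4, 3, 4, 3, 4] = true := by decide +kernel

theorem pair_rows2_1 : pairOK 1 [1, 6] [3, 4, 3, 4, 3, 4, 3, 4] = true := by decide +kernel

theorem pair_rows2_2 : pairOK 2 [1, 6] [3, 4, 3, 4, 3, 4, 3, 4] = true := by decide +kernel

theorem pair_rows2_3 : pairOK 3 [1, 6] [3, 4, 3, 4, 3, 4, 3, 4] = true := by decide +kernel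

theorem pair_rows2_4 : pairOK 4 [1, 6] [3, 4, 3, 4, 3, 4, 3, 4] = true := by decide +kernel

theorem pair_val2 : wordVal [1, 6] = wordVal [3, 4, 3, 4, 3, 4, 3, 4] :=
  eqW_of_rows (five_cases pair_rows2_0 pair_rows2_1 pair_rows2_2
    pair_rows2_3 pair_rows2_4)

theorem scal_chk : evP [0, 0, 1, 6] = datTwo ∧ evP [0, 2, 3, 0, 3, 2, 0, 2, 3, 0, 3] = datTwo ∧
    evP [0, 5, 4, 0, 4, 5, 0, 5, 4, 0, 4] = datTwo := ⟨scal_chk0, scal_chk1, scal_chk2⟩

theorem comm_chk : wordVal [3, 4, 0, 4, 0] = wordVal [4, 0, 4, 0, 3] ∧ wordVal [4, 3, 0, 3, 0] = wordVal [3, 0, 3, 0, 4] ∧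
    wordVal [1, 6] = wordVal [3, 4, 3, 4, 3, 4, 3, 4] :=
  ⟨pair_val0, pair_val1, pair_val2⟩

end Cfsg.Lib.ONFortyFive
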