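import Mathlib

/-!
Square matrices of size forty-five over seven elements with packed rows.
-/

set_option autoImplicit false

namespace Cfsg.Lib.ONFortyFive

open Finset

/-- A field of sixteen bits. -/
def fld : ℕ → ℕ → ℕ
  | n, 0 => Nat.mod n 65536
  | n, j + 1 => fld (Nat.div n 65536) j

/-- Packed fields. -/
def pk (f : ℕ → ℕ) (n : ℕ) : ℕ := ∑ j ∈ range n, f j * 65536 ^ j

theorem pk_succ (f : ℕ → ℕ) (n : ℕ) : pk f (n + 1) = f 0 + 65536 * pk (fun j => f (j + 1)) n := by
  rw [pk, sum_range_succ', pow_zero, mul_one, add_comm, pk, mul_sum]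
  congr 1
  refine sum_congr rfl fun j _ => ?_
  rw [pow_succ]; ring

theorem fld_pk : ∀ (n : ℕ) (f : ℕ → ℕ), (∀ j, f j < 65536) → ∀ j, j < n → fld (pk f n) j = f j
  | 0, _, _, j, h => absurd h (Nat.not_lt_zero j)
  | n + 1, f, hf, 0, _ => by
    show pk f (n + 1) % 65536 = _
    rw [pk_succ, Nat.add_mul_mod_self_left, Nat.mod_eq_of_lt (hf 0)]
  | n + 1, f, hf, j + 1, h => by
    show fld (pk f (n + 1) / 65536) j = _
    rw [pk_succ, Nat.add_mul_div_left _ _ (by norm_num), Nat.div_eq_of_lt (hf 0), zero_add,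
      fld_pk n _ (fun i => hf (i + 1)) j (by omega)]

theorem pk_fld : ∀ (n x : ℕ), x < 65536 ^ n → pk (fld x) n = x
  | 0, x, h => by simp [pk] at h ⊢; omega
  | n + 1, x, h => by
    rw [pk_succ]
    show x % 65536 + 65536 * pk (fun j => fld x (j + 1)) n = x
    have e : (fun j => fld x (j + 1)) = fld (x / 65536) := rfl
    rw [e, pk_fld n (x / 65536) (Nat.div_lt_of_lt_mul (by rw [pow_succ] at h; linarith))]
    exact Nat.mod_add_div x 65536

/-- Evaluate a number before going on. -/
noncomputable def frc (n : ℕ) (k : ℕ → ℕ) : ℕ :=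
  Nat.rec (motive := fun _ => ℕ) (k 0) (fun m _ => k (Nat.succ m)) n

theorem frc_eq (n : ℕ) (k : ℕ → ℕ) : frc n k = k n := by cases n <;> rfl

/-- Reduce the fields modulo seven. -/
noncomputable def redR : ℕ → ℕ → ℕ
  | 0, _ => 0
  | k + 1, x => frc (Nat.div x 65536) fun q => Nat.add (Nat.mod (Nat.mod x 65536) 7) (Nat.mul 65536 (redR k q))

theorem redR_eq : ∀ k x, redR k x = pk (fun j => fld x j % 7) k
  | 0, _ => by simp [redR, pk]
  | k + 1, x => by
    rw [pk_succ, redR, frc_eq]
    show x % 65536 % 7 + 65536 * redR k (x / 65536) = _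
    rw [redR_eq k]
    rfl

/-- A combination of rows. -/
noncomputable def comb : List ℕ → ℕ → ℕ
  | [], _ => 0
  | b :: B, a => frc (Nat.div a 65536) fun q => Nat.add (Nat.mul (Nat.mod a 65536) b) (comb B q)

theorem comb_eq : ∀ (B : List ℕ) (a : ℕ), (∀ b ∈ B, b < 65536 ^ 45) →
    comb B a = pk (fun j => ∑ k ∈ range B.length, fld a k * fld (B.getD k 0) j) 45
  | [], _, _ => by simp [comb, pk]
  | b :: B, a, h => by
    rw [comb, frc_eq]
    show a % 65536 * b + comb B (a / 65536) = _
    rw [comb_eq B (a / 65536) fun x hx => h x (List.mem_cons_of_mem _ hx)]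
    conv_lhs => rw [← pk_fld 45 b (h b List.mem_cons_self)]
    simp only [pk, mul_sum, ← sum_add_distrib, List.length_cons]
    refine sum_congr rfl fun j _ => ?_
    rw [sum_range_succ' (fun k => fld a k * fld ((b :: B).getD k 0) j)]
    simp only [List.getD_cons_succ, List.getD_cons_zero]
    show a % 65536 * (fld b j * 65536 ^ j) + _ = _
    rw [show fld a 0 = a % 65536 from rfl, add_mul, add_comm, mul_assoc]
    rfl

/-- Evaluate a number before going on, for a truth value. -/
noncomputable def frcB (n : ℕ) (k : ℕ → Bool) : Bool :=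
  Nat.rec (motive := fun _ => Bool) (k 0) (fun m _ => k (Nat.succ m)) n

theorem frcB_eq (n : ℕ) (k : ℕ → Bool) : frcB n k = k n := by cases n <;> rfl

/-- The fields of a row are below seven and nothing lies above. -/
noncomputable def okRow : ℕ → ℕ → Bool
  | 0, x => Nat.beq x 0
  | k + 1, x => Nat.blt (Nat.mod x 65536) 7 && frcB (Nat.div x 65536) fun q => okRow k q

theorem okRow_sound : ∀ k x, okRow k x = true → (∀ j, fld x j < 7) ∧ x < 65536 ^ k
  | 0, x, h => by
    simp only [okRow, Nat.beq_eq] at h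
    subst h
    refine ⟨fun j => ?_, by norm_num⟩
    induction j with
    | zero => exact Nat.zero_lt_succ _
    | succ j ih => exact ih
  | k + 1, x, h => by
    simp only [okRow, frcB_eq, Bool.and_eq_true, Nat.blt, Nat.ble_eq] at h
    obtain ⟨h1, h2⟩ := h
    obtain ⟨i1, i2⟩ := okRow_sound k _ h2
    refine ⟨fun j => ?_, ?_⟩
    · cases j with
      | zero => exact h1
      | succ j => exact i1 j
    · have e := Nat.mod_add_div x 65536
      have h3 : x % 65536 < 65536 := Nat.mod_lt _ (by norm_num)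
      have i2' : x / 65536 + 1 ≤ 65536 ^ k := i2
      calc x < 65536 * (x / 65536 + 1) := by linarith
        _ ≤ 65536 * 65536 ^ k := Nat.mul_le_mul le_rfl i2'
        _ = 65536 ^ (k + 1) := by rw [pow_succ]; ring

/-- Forty-five good rows. -/
noncomputable def okMat (A : List ℕ) : Bool := Nat.beq A.length 45 && A.all (okRow 45)

/-- Good data. -/
def Good (A : List ℕ) : Prop := A.length = 45 ∧ ∀ a ∈ A, (∀ j, fld a j < 7) ∧ a < 65536 ^ 45

theorem good_of {A : List ℕ} (h : okMat A = true) : Good A := by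
  simp only [okMat, Bool.and_eq_true, Nat.beq_eq, List.all_eq_true] at h
  exact ⟨h.1, fun a ha => okRow_sound 45 a (h.2 a ha)⟩

/-- The matrix of packed rows. -/
def val (A : List ℕ) : Matrix (Fin 45) (Fin 45) (ZMod 7) := fun i j => (fld (A.getD i 0) j : ZMod 7)

/-- The product of packed matrices. -/
noncomputable def mulP (A B : List ℕ) : List ℕ := A.map fun a => redR 45 (comb B a)

theorem fld_zero : ∀ j, fld 0 j = 0
  | 0 => rfl
  | j + 1 => fld_zero j

theorem getD_good {A : List ℕ} (h : Good A) (i : ℕ) : ∀ j, fld (A.getD i 0) j < 7 := by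
  intro j
  by_cases hi : i < A.length
  · rw [List.getD_eq_getElem _ _ hi]; exact (h.2 _ (List.getElem_mem hi)).1 j
  · rw [List.getD_eq_default _ _ (Nat.le_of_not_lt hi), fld_zero]; norm_num

theorem mulP_fld {A B : List ℕ} (hA : Good A) (hB : Good B) {i j : ℕ} (hi : i < 45) (hj : j < 45) :
    fld ((mulP A B).getD i 0) j = (∑ k ∈ range 45, fld (A.getD i 0) k * fld (B.getD k 0) j) % 7 := by
  rw [List.getD_eq_getElem (mulP A B) _ (by rw [mulP, List.length_map, hA.1]; exact hi),
    List.getD_eq_getElem A _ (by rw [hA.1]; exact hi)]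
  have hiA : i < A.length := by rw [hA.1]; exact hi
  simp only [mulP, List.getElem_map]
  rw [redR_eq, fld_pk 45 _ (fun t => by have := Nat.mod_lt (fld (comb B A[i]) t) (by norm_num : 7 > 0); omega) j hj,
    comb_eq B _ fun b hb => (hB.2 b hb).2, fld_pk 45 _ ?_ j hj, hB.1]
  intro t
  rw [hB.1]
  have : ∀ k ∈ range 45, fld A[i] k * fld (B.getD k 0) t ≤ 36 := fun k _ => by
    have h1 := (hA.2 _ (List.getElem_mem (show i < A.length by rw [hA.1]; exact hi))).1 k
    have h2 := getD_good hB k t
    exact le_trans (Nat.mul_le_mul (Nat.le_of_lt_succ h1) (Nat.le_of_lt_succ h2)) (by norm_num)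
  have := sum_le_sum this
  simp only [sum_const, card_range, smul_eq_mul] at this
  omega

theorem mulP_good {A B : List ℕ} (hA : Good A) : Good (mulP A B) := by
  refine ⟨by rw [mulP, List.length_map, hA.1], fun a ha => ?_⟩
  obtain ⟨x, -, rfl⟩ := List.mem_map.1 ha
  apply okRow_sound
  suffices H : ∀ k y, okRow k (redR k y) = true from H 45 _
  intro k
  induction k with
  | zero => intro y; rfl
  | succ k ih =>
    intro y
    have hlt : y % 65536 % 7 < 65536 := lt_trans (Nat.mod_lt _ (by norm_num)) (by norm_num)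
    have e1 : Nat.mod (redR (k + 1) y) 65536 = y % 65536 % 7 := by
      rw [redR, frc_eq]
      show (y % 65536 % 7 + 65536 * redR k (y / 65536)) % 65536 = _
      rw [Nat.add_mul_mod_self_left, Nat.mod_eq_of_lt hlt]
    have e2 : Nat.div (redR (k + 1) y) 65536 = redR k (y / 65536) := by
      rw [redR, frc_eq]
      show (y % 65536 % 7 + 65536 * redR k (y / 65536)) / 65536 = _
      rw [Nat.add_mul_div_left _ _ (by norm_num), Nat.div_eq_of_lt hlt, zero_add]
    rw [okRow, frcB_eq, e1, e2, ih, Bool.and_true]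
    simp only [Nat.blt, Nat.ble_eq]
    exact Nat.succ_le_of_lt (Nat.mod_lt _ (by norm_num))

theorem val_mulP {A B : List ℕ} (hA : Good A) (hB : Good B) : val (mulP A B) = val A * val B := by
  funext i j
  rw [val, mulP_fld hA hB i.2 j.2, ZMod.natCast_mod, Nat.cast_sum, Matrix.mul_apply,
    ← Fin.sum_univ_eq_sum_range (fun k => ((fld (A.getD i 0) k * fld (B.getD k 0) j : ℕ) : ZMod 7))]
  exact Finset.sum_congr rfl fun k _ => by simp [val]

end Cfsg.Lib.ONFortyFive
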