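import Cfsg.Agent.ONFortyFive.Check
import Cfsg.Agent.ONPres.RelsHom
import Cfsg.Agent.ONPres.Simple

/-!
The group generated by the seven matrices is a triple cover of the presented O'Nan group.
-/

set_option autoImplicit false

namespace Cfsg.Lib.ONFortyFive

open Matrix Cfsg.Lib.ONPres
open Cfsg.Spor.ON (Gen)

theorem dat_one : dat 1 = dat1 := rfl

theorem val_apply (A : List ℕ) (i j : Fin 45) : val A i j = (fld (A.getD i 0) j : ZMod 7) := rfl

attribute [local irreducible] val dat

theorem word_cox {w : List (Fin 7)} (h : w ∈ coxWords) : wordVal w = 1 := eqOne_sound (cox_chk w h)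

/-- The determinant of a letter. -/
noncomputable def dl (x : Fin 7) : ZMod 7 := (val (dat x)).det

theorem det_word : ∀ w : List (Fin 7), (wordVal w).det = (w.map dl).prod
  | [] => by simp only [wordVal, List.map_nil, List.prod_nil, det_one]
  | x :: w => by
    have ih := det_word w
    simp only [wordVal] at ih ⊢
    rw [List.map_cons, List.prod_cons, det_mul, ih, List.map_cons, List.prod_cons, dl]

theorem two_det : ((2 : ZMod 7) • (1 : Matrix (Fin 45) (Fin 45) (ZMod 7))).det = 1 := by
  rw [det_smul, det_one, mul_one, Fintype.card_fin, show (45 : ℕ) = 3 * 15 from rfl, pow_mul,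
    show (2 : ZMod 7) ^ 3 = 1 by decide, one_pow]

theorem det_cox {w : List (Fin 7)} (h : w ∈ coxWords) : (w.map dl).prod = 1 := by
  rw [← det_word, word_cox h, det_one]

theorem det_two {w : List (Fin 7)} (h : evP w = datTwo) : (w.map dl).prod = 1 := by
  rw [← det_word, eqTwo_sound h, two_det]

theorem pair_eq : ∀ x y : ZMod 7, x * x = 1 → y * y = 1 → x * (y * (x * (y * (x * y)))) = 1 → x = y := by decide

theorem all_one (D : Fin 7 → ZMod 7) (hC : ∀ w ∈ coxWords, (w.map D).prod = 1)
    (h2 : ([1, 6].map D).prod = ([3, 4, 3, 4, 3, 4, 3, 4].map D).prod)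
    (hgg : ([0, 0, 1, 6].map D).prod = 1) (hsix : ([0, 2, 3, 0, 3, 2, 0, 2, 3, 0, 3].map D).prod = 1)
    (h5 : ([2, 3, 4, 0, 2, 3, 4, 0, 2, 3, 4, 0, 2, 3, 4, 0, 2, 3, 4, 0].map D).prod = 1) : ∀ x, D x = 1 := by
  simp only [coxWords, List.forall_mem_cons, List.map_cons, List.map_nil, List.prod_cons, List.prod_nil,
    mul_one] at hC h2 hgg hsix h5
  obtain ⟨sa, sb, sc, sd, se, sf, ab, -, -, -, -, bc, -, -, -, -, -, -, de, -, ef, -⟩ := hC
  have eb := pair_eq _ _ sa sb ab
  have ec := pair_eq _ _ sb sc bc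
  have ee := pair_eq _ _ sd se de
  have ef' := pair_eq _ _ se sf ef
  rw [← ef', ← ee, ← ec, ← eb] at h2
  rw [← ec, ← eb] at hsix
  rw [← ec, ← eb] at h5
  rw [← ef', ← ee] at hgg
  have key : ∀ a d g : ZMod 7, a * a = 1 → d * d = 1 →
      a * d = a * (d * (a * (d * (a * (d * (a * d)))))) →
      g * (g * (a * d)) = 1 →
      g * (a * (a * (g * (a * (a * (g * (a * (a * (g * a))))))))) = 1 →
      a * (a * (d * (g * (a * (a * (d * (g * (a * (a * (d * (g * (a * (a * (d * (g * (a * (a * (d * g)))))))))))))))))) = 1 →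
      a = 1 ∧ d = 1 ∧ g = 1 := by decide
  obtain ⟨k1, k4, k0⟩ := key _ _ _ sa sd h2 hgg hsix h5
  intro x
  fin_cases x
  exacts [k0, k1, eb ▸ k1, ec ▸ eb ▸ k1, k4, ee ▸ k4, ef' ▸ ee ▸ k4]

theorem dl_one : ∀ x, dl x = 1 :=
  all_one dl (fun _ h => det_cox h)
    (((det_word _).symm.trans (congrArg Matrix.det comm_chk.2.2)).trans (det_word _))
    (det_two scal_chk.1) (det_two scal_chk.2.1)
    ((det_word _).symm.trans ((congrArg Matrix.det (eqOne_sound five_chk)).trans det_one))

/-- The special linear group. -/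
abbrev SL45 : Type := Matrix.SpecialLinearGroup (Fin 45) (ZMod 7)

/-- The generators. -/
noncomputable def sg (x : Fin 7) : SL45 := ⟨val (dat x), dl_one x⟩

attribute [local irreducible] dl

theorem sg_val (x : Fin 7) : (sg x).1 = val (dat x) := rfl

theorem sl_mul (A B : SL45) : (A * B).1 = A.1 * B.1 := rfl

theorem sl_one : (1 : SL45).1 = 1 := rfl

theorem coe_word : ∀ w : List (Fin 7), ((w.map sg).prod : SL45).1 = wordVal w
  | [] => by simp only [wordVal, List.map_nil, List.prod_nil, sl_one]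
  | x :: w => by
    have ih := coe_word w
    simp only [wordVal] at ih ⊢
    rw [List.map_cons, List.prod_cons, sl_mul, ih, List.map_cons, List.prod_cons, sg_val]

theorem word_one {w : List (Fin 7)} (h : evP w = datOne) : (w.map sg).prod = 1 :=
  Subtype.ext ((coe_word w).trans (eqOne_sound h))

theorem word_eq {u v : List (Fin 7)} (h : wordVal u = wordVal v) : (u.map sg).prod = (v.map sg).prod :=
  Subtype.ext ((coe_word u).trans (h.trans (coe_word v).symm))

/-- The central element. -/
noncomputable def zeta : SL45 := ([0, 0, 1, 6].map sg).prod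

theorem zeta_coe : (zeta : SL45).1 = (2 : ZMod 7) • 1 :=
  (coe_word _).trans (eqTwo_sound scal_chk.1)

theorem word_two {w : List (Fin 7)} (h : evP w = datTwo) : (w.map sg).prod = zeta :=
  Subtype.ext ((coe_word w).trans ((eqTwo_sound h).trans zeta_coe.symm))

theorem zeta_center : zeta ∈ Subgroup.center SL45 := Subgroup.mem_center_iff.2 fun g => Subtype.ext (by
  rw [sl_mul, sl_mul, zeta_coe, mul_smul_comm, smul_mul_assoc, one_mul, mul_one])

theorem zeta_ne : zeta ≠ 1 := fun h => by
  have := congrFun (congrFun (zeta_coe.symm.trans (congrArg Subtype.val h)) 0) 0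
  rw [sl_one, Matrix.smul_apply, Matrix.one_apply_eq, smul_eq_mul, mul_one] at this
  exact absurd this (by decide)

/-- The quotient by the scalars. -/
abbrev PQ : Type := SL45 ⧸ Subgroup.center SL45

/-- The images of the generators. -/
noncomputable def pg (x : Fin 7) : PQ := (sg x : PQ)

theorem pg_eq (x : Fin 7) : pg x = QuotientGroup.mk' (Subgroup.center SL45) (sg x) := rfl

theorem pg_one_mem {x : Fin 7} (h : pg x = 1) : sg x ∈ Subgroup.center SL45 := (QuotientGroup.eq_one_iff _).1 h

theorem pg_word : ∀ w : List (Fin 7), (w.map pg).prod = (((w.map sg).prod : SL45) : PQ)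
  | [] => rfl
  | x :: w => by rw [List.map_cons, List.prod_cons, pg_word w, List.map_cons, List.prod_cons, QuotientGroup.mk_mul, pg]

attribute [local irreducible] sg pg

theorem pq_one {w : List (Fin 7)} (h : evP w = datOne) : (w.map pg).prod = 1 := by
  rw [pg_word, word_one h]; rfl

theorem pq_two {w : List (Fin 7)} (h : evP w = datTwo) : (w.map pg).prod = 1 := by
  rw [pg_word, word_two h]; exact (QuotientGroup.eq_one_iff _).2 zeta_center

theorem pq_eq {u v : List (Fin 7)} (h : wordVal u = wordVal v) : (u.map pg).prod = (v.map pg).prod := by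
  rw [pg_word, pg_word, word_eq h]

theorem pq_rels : ONRels (pg 0) (pg 1) (pg 2) (pg 3) (pg 4) (pg 5) (pg 6) := by
  have cx : ∀ w ∈ coxWords, (w.map pg).prod = 1 := fun w hw => pq_one (cox_chk w hw)
  simp only [coxWords, List.forall_mem_cons, List.map_cons, List.map_nil, List.prod_cons, List.prod_nil, mul_one] at cx
  obtain ⟨sa, sb, sc, sd, se, sf, ab, ac, ad, ae, af, bc, bd, be, bf, cd, ce, cf, de, df, ef, -⟩ := cx
  have ia := inv_eq_of_mul_eq_one_left sa
  have ib := inv_eq_of_mul_eq_one_left sb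
  have ic := inv_eq_of_mul_eq_one_left sc
  have id' := inv_eq_of_mul_eq_one_left sd
  have ie := inv_eq_of_mul_eq_one_left se
  have if' := inv_eq_of_mul_eq_one_left sf
  have h1 := pq_two scal_chk.1
  have h6 := pq_two scal_chk.2.1
  have h7 := pq_two scal_chk.2.2
  have h5 := pq_one five_chk
  have h3 := pq_eq comm_chk.1
  have h4 := pq_eq comm_chk.2.1
  have h2 := pq_eq comm_chk.2.2
  simp only [List.map_cons, List.map_nil, List.prod_cons, List.prod_nil, mul_one] at h1 h2 h3 h4 h5 h6 h7
  refine ⟨sa, sb, sc, sd, se, sf, ?_, ?_, ?_, ?_, ?_, ?_, ?_, ?_, ?_, ?_, ?_, ?_, ?_, ?_, ?_, ?_, ?_, ?_, ?_, ?_,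
    ?_, ?_⟩
  iterate 15 (first
    | simpa [pow_succ, mul_assoc] using ab | simpa [pow_succ, mul_assoc] using ac
    | simpa [pow_succ, mul_assoc] using ad | simpa [pow_succ, mul_assoc] using ae
    | simpa [pow_succ, mul_assoc] using af | simpa [pow_succ, mul_assoc] using bc
    | simpa [pow_succ, mul_assoc] using bd | simpa [pow_succ, mul_assoc] using be
    | simpa [pow_succ, mul_assoc] using bf | simpa [pow_succ, mul_assoc] using cd
    | simpa [pow_succ, mul_assoc] using ce | simpa [pow_succ, mul_assoc] using cf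
    | simpa [pow_succ, mul_assoc] using de | simpa [pow_succ, mul_assoc] using df
    | simpa [pow_succ, mul_assoc] using ef)
  · have hh : pg 1 * pg 6 * (pg 1 * pg 6) = 1 := by simpa [mul_assoc] using af
    rw [pow_two]
    calc pg 1 * pg 6 = (pg 1 * pg 6)⁻¹ := (inv_eq_of_mul_eq_one_left hh).symm
      _ = pg 0 * pg 0 := inv_eq_of_mul_eq_one_left (by simpa [mul_assoc] using h1)
  · simpa [pow_succ, mul_assoc] using h2
  · rw [show (pg 4 * pg 0 * pg 4 * pg 0)⁻¹ * pg 3 * (pg 4 * pg 0 * pg 4 * pg 0) =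
      (pg 4 * pg 0 * pg 4 * pg 0)⁻¹ * (pg 3 * (pg 4 * pg 0 * pg 4 * pg 0)) by simp [mul_assoc],
      show pg 3 * (pg 4 * pg 0 * pg 4 * pg 0) = (pg 4 * pg 0 * pg 4 * pg 0) * pg 3 by simpa [mul_assoc] using h3,
      inv_mul_cancel_left, sc]
  · rw [show (pg 3 * pg 0 * pg 3 * pg 0)⁻¹ * pg 4 * (pg 3 * pg 0 * pg 3 * pg 0) =
      (pg 3 * pg 0 * pg 3 * pg 0)⁻¹ * (pg 4 * (pg 3 * pg 0 * pg 3 * pg 0)) by simp [mul_assoc],
      show pg 4 * (pg 3 * pg 0 * pg 3 * pg 0) = (pg 3 * pg 0 * pg 3 * pg 0) * pg 4 by simpa [mul_assoc] using h4,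
      inv_mul_cancel_left, sd]
  · simpa [pow_succ, mul_assoc] using h5
  · simpa [ib, ic, mul_assoc] using h6
  · simpa [id', ie, mul_assoc] using h7

/-- The images of the presented generators. -/
noncomputable def genImg : Gen → PQ
  | .g => pg 0 | .a => pg 1 | .b => pg 2 | .c => pg 3 | .d => pg 4 | .e => pg 5 | .f => pg 6

/-- The homomorphism from the presented group. -/
noncomputable def onHom : Cfsg.Spor.ON →* PQ :=
  PresentedGroup.toGroup (rels_hom pq_rels genImg rfl rfl rfl rfl rfl rfl rfl)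

theorem onHom_of (x : Gen) : onHom (PresentedGroup.of x) = genImg x := PresentedGroup.toGroup.of _

/-- The group generated by the seven matrices. -/
noncomputable def cover : Subgroup SL45 := Subgroup.closure (Set.range sg)

/-- The map to the quotient by scalars. -/
noncomputable def coverMap : cover →* PQ := (QuotientGroup.mk' (Subgroup.center SL45)).comp cover.subtype

theorem coverMap_range : coverMap.range = onHom.range := by
  rw [coverMap, MonoidHom.range_comp, Subgroup.range_subtype, cover, MonoidHom.map_closure,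
    MonoidHom.range_eq_map onHom, ← PresentedGroup.closure_range_of, MonoidHom.map_closure]
  congr 1
  ext y
  simp only [Set.mem_image, Set.mem_range, exists_exists_eq_and]
  constructor
  · rintro ⟨x, rfl⟩
    rw [← pg_eq]
    fin_cases x
    exacts [⟨.g, onHom_of _⟩, ⟨.a, onHom_of _⟩, ⟨.b, onHom_of _⟩, ⟨.c, onHom_of _⟩, ⟨.d, onHom_of _⟩,
      ⟨.e, onHom_of _⟩, ⟨.f, onHom_of _⟩]
  · rintro ⟨x, rfl⟩
    rw [onHom_of]
    cases x
    exacts [⟨0, (pg_eq _).symm⟩, ⟨1, (pg_eq _).symm⟩, ⟨2, (pg_eq _).symm⟩, ⟨3, (pg_eq _).symm⟩, ⟨4, (pg_eq _).symm⟩,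
      ⟨5, (pg_eq _).symm⟩, ⟨6, (pg_eq _).symm⟩]

theorem nonscalar : ¬ ((sg 1).1 0 0 = (sg 1).1 44 44 ∧
      (∀ i j : Fin 45, i ≠ j → (sg 1).1 i j = 0)) := by
  intro h
  have h' : (fld (dat1.getD 0 0) 2 : ZMod 7) = 0 := by
    rw [← dat_one]
    have := h.2 ⟨0, by norm_num⟩ ⟨2, by norm_num⟩ (by decide)
    rwa [sg_val, val_apply] at this
  revert h'
  decide +kernel

theorem center_card : Nat.card (Subgroup.center SL45) = 3 := by
  rw [Nat.card_congr (Matrix.SpecialLinearGroup.center_equiv_rootsOfUnity' (0 : Fin 45)).toEquiv,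
    Nat.card_congr (Equiv.subtypeEquivRight fun u => mem_rootsOfUnity _ u), Nat.card_eq_fintype_card,
    Fintype.card_fin]
  decide +kernel

theorem on_nonabelian : ¬ ∀ a b : Cfsg.Spor.ON, a * b = b * a := by
  intro h
  haveI := on_simple
  letI : CommGroup Cfsg.Spor.ON := { (inferInstance : Group Cfsg.Spor.ON) with mul_comm := h }
  have hp : (Nat.card Cfsg.Spor.ON).Prime := IsSimpleGroup.prime_card
  rw [on_card] at hp
  norm_num at hp

theorem sg_ne : pg 1 ≠ 1 := by
  intro h
  have hz := Matrix.SpecialLinearGroup.mem_center_iff.1 (pg_one_mem h)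
  obtain ⟨r, -, hr⟩ := hz
  have h1 : (sg 1).1 0 0 = (sg 1).1 44 44 ∧
      (∀ i j : Fin 45, i ≠ j → (sg 1).1 i j = 0) := by
    rw [← hr]
    exact ⟨by simp [Matrix.scalar_apply], fun i j hij => by simp [Matrix.scalar_apply, hij]⟩
  exact absurd h1 nonscalar

theorem cover_general {A : Type} [Group A] (H : Subgroup A) {S : Type} [Group S] [IsSimpleGroup S]
    (hS : ¬ ∀ a b : S, a * b = b * a) (φ : S →* A ⧸ Subgroup.center A) (hφ : Function.Injective φ)
    (hr : ((QuotientGroup.mk' (Subgroup.center A)).comp H.subtype).range = φ.range) (z : A)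
    (hzc : z ∈ Subgroup.center A) (hz1 : z ≠ 1) (hzH : z ∈ H) (hcard : Nat.card (Subgroup.center A) = 3) :
    Nat.card (Subgroup.center H) = 3 ∧ Nonempty (H ⧸ Subgroup.center H ≃* S) := by
  set m : H →* A ⧸ Subgroup.center A := (QuotientGroup.mk' (Subgroup.center A)).comp H.subtype with hm
  let e : H ⧸ m.ker ≃* S :=
    (QuotientGroup.quotientKerEquivRange m).trans
      ((MulEquiv.subgroupCongr hr).trans (MonoidHom.ofInjective hφ).symm)
  have hsimple : IsSimpleGroup (H ⧸ m.ker) := MulEquiv.isSimpleGroup e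
  have hmem : ∀ x : H, x ∈ m.ker ↔ (x : A) ∈ Subgroup.center A := fun x => by
    rw [MonoidHom.mem_ker, hm, MonoidHom.comp_apply, Subgroup.coe_subtype, QuotientGroup.mk'_apply,
      QuotientGroup.eq_one_iff]
  have hle : m.ker ≤ Subgroup.center H := fun x hx => Subgroup.mem_center_iff.2 fun y => Subtype.ext
    (Subgroup.mem_center_iff.1 ((hmem x).1 hx) y)
  have hcen : Subgroup.center H = m.ker := by
    refine le_antisymm (fun x hx => ?_) hle
    have hn : ((Subgroup.center H).map (QuotientGroup.mk' m.ker)).Normal :=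
      Subgroup.Normal.map inferInstance _ (QuotientGroup.mk'_surjective _)
    rcases hsimple.eq_bot_or_eq_top_of_normal _ hn with h | h
    · have := h.le (Subgroup.mem_map_of_mem _ hx)
      rwa [Subgroup.mem_bot, QuotientGroup.mk'_apply, QuotientGroup.eq_one_iff] at this
    · exfalso
      refine hS fun a b => ?_
      obtain ⟨u, hu, hu'⟩ := Subgroup.mem_map.1 (h.ge (Subgroup.mem_top (e.symm a)))
      obtain ⟨v, rfl⟩ : ∃ v, e (QuotientGroup.mk' m.ker v) = b := by
        obtain ⟨v, hv⟩ := QuotientGroup.mk'_surjective m.ker (e.symm b)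
        exact ⟨v, by rw [hv, e.apply_symm_apply]⟩
      rw [← e.apply_symm_apply a, ← hu', ← map_mul, ← map_mul, ← map_mul, ← map_mul,
        Subgroup.mem_center_iff.1 hu v]
  have hlift : m.ker.map H.subtype = Subgroup.center A := by
    refine le_antisymm ?_ ?_
    · rintro _ ⟨x, hx, rfl⟩
      exact (hmem x).1 hx
    · intro c hc
      haveI : Fact (Nat.Prime 3) := ⟨Nat.prime_three⟩
      have hzp : c ∈ Subgroup.zpowers z := by
        have h3 := mem_zpowers_of_prime_card (G := Subgroup.center A) hcard (g := ⟨z, hzc⟩)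
          (g' := ⟨c, hc⟩) (fun h => hz1 (Subtype.ext_iff.1 h))
        obtain ⟨k, hk⟩ := Subgroup.mem_zpowers_iff.1 h3
        exact Subgroup.mem_zpowers_iff.2 ⟨k, by simpa using congrArg Subtype.val hk⟩
      have hcH : c ∈ H := (Subgroup.zpowers_le.2 hzH) hzp
      exact ⟨⟨c, hcH⟩, (hmem _).2 hc, rfl⟩
  refine ⟨?_, ⟨(QuotientGroup.quotientMulEquivOfEq hcen).trans e⟩⟩
  rw [hcen]
  exact ((Nat.card_congr (Subgroup.equivMapOfInjective m.ker _ H.subtype_injective).toEquiv).trans
    (congrArg (fun K : Subgroup A => Nat.card K) hlift)).trans hcard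

theorem onHom_injective : Function.Injective onHom := by
  haveI := on_simple
  rcases (inferInstance : IsSimpleGroup Cfsg.Spor.ON).eq_bot_or_eq_top_of_normal onHom.ker inferInstance with h | h
  · exact (MonoidHom.ker_eq_bot_iff _).1 h
  · exfalso
    refine sg_ne ?_
    have h2 : onHom (PresentedGroup.of Gen.a) = 1 := MonoidHom.mem_ker.1 (h ▸ Subgroup.mem_top _)
    rwa [onHom_of] at h2

theorem sg_mem (i : Fin 7) : sg i ∈ cover := Subgroup.subset_closure ⟨i, rfl⟩

theorem zeta_mem : zeta ∈ cover := by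
  rw [zeta]
  simp only [List.map_cons, List.map_nil, List.prod_cons, List.prod_nil]
  exact mul_mem (sg_mem _) (mul_mem (sg_mem _) (mul_mem (sg_mem _) (mul_mem (sg_mem _) (one_mem _))))

attribute [local irreducible] cover onHom zeta

theorem result' : ∃ H : Subgroup SL45, Nat.card (Subgroup.center H) = 3 ∧ Cfsg.IsON (H ⧸ Subgroup.center H) := by
  haveI := on_simple
  obtain ⟨h3, ⟨e⟩⟩ := cover_general cover on_nonabelian onHom onHom_injective coverMap_range zeta zeta_center
    zeta_ne zeta_mem center_card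
  exact ⟨cover, h3, MulEquiv.isSimpleGroup e, (Nat.card_congr e.toEquiv).trans on_card⟩

end Cfsg.Lib.ONFortyFive
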